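import Cfsg.Agent.Lib.Comp.Sy6.Main
import Cfsg.Agent.Lib.Fi.RA

set_option maxRecDepth 100000
set_option Elab.async false

namespace Cfsg.Lib.Comp.Sy6

universe u

open Cfsg.Lib.Fi

attribute [local instance high] sumDec

def del : List (Equiv.Perm (Fin 6)) := [1,
 ⟨![0, 1, 2, 3, 5, 4], ![0, 1, 2, 3, 5, 4], by decide, by decide⟩,
 ⟨![0, 1, 2, 5, 4, 3], ![0, 1, 2, 5, 4, 3], by decide, by decide⟩,
 ⟨![0, 1, 3, 2, 4, 5], ![0, 1, 3, 2, 4, 5], by decide, by decide⟩,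
 ⟨![0, 2, 1, 3, 4, 5], ![0, 2, 1, 3, 4, 5], by decide, by decide⟩,
 ⟨![1, 0, 2, 3, 4, 5], ![1, 0, 2, 3, 4, 5], by decide, by decide⟩]

def lab : List (Fin 6) := [0,
 1,
 2,
 3,
 4,
 5]

theorem iso : Nonempty (cl (gp nets) L ≃* Equiv.Perm (Fin 6)) :=
  RA.iso (RA.perm 6) nets_ok fx (δ := nth 1 del) (lab := nth (0) lab) (by decide +kernel) (by decide +kernel) (by decide +kernel) card
    (by rw [Nat.card_perm, Nat.card_eq_fintype_card, Fintype.card_fin]; rfl) (by norm_num)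

end Cfsg.Lib.Comp.Sy6
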