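import Cfsg.Agent.Lib.Comp.Sy6.Base

set_option maxRecDepth 100000
set_option Elab.async false

namespace Cfsg.Lib.Comp.Sy6

universe u

noncomputable def T1_R : List (List ℕ × ℕ) := [([1],1),
 ([2],1),
 ([1,2],2),
 ([3],1),
 ([1,3],1),
 ([2,3],2),
 ([4],1),
 ([1,4],1),
 ([2,4],1),
 ([3,4],2)]

noncomputable def T1_n_1 : Net :=
 (Net.cons 1 (nat_lit 0x8)
 Net.nil)

noncomputable def T1_n_2 : Net :=
 (Net.cons 1 (nat_lit 0x4)
 Net.nil)

noncomputable def T1_n_3 : Net :=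
 (Net.cons 1 (nat_lit 0x2)
 Net.nil)

noncomputable def T1_n_4 : Net :=
 (Net.cons 1 (nat_lit 0x1)
 Net.nil)

noncomputable def T1_n : List Net := [Net.nil,
 T1_n_1,
 T1_n_2,
 T1_n_3,
 T1_n_4]

theorem T1_n_ok : NetsOK 5 T1_n := netsOK_of (by decide +kernel)

theorem T1_n_rel : Rels (gp T1_n) T1_R := rels_of_relsB (k := 3) T1_n_ok (by norm_num) (by decide +kernel)

theorem T1_fin : finB 5 T1_n [1,2,3,4] 5 (runH 5 T1_n (fun x p => ptInv (nth Net.nil T1_n x) p) iv T1_R [] ([1,2,3].map fun x => [x]) 0 []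
  [1,5,9,0,4,12,24,28,32,36,16,20,32,8,16,28]
  (defsH 5 T1_n (ones 30) [4,3,2,1] (Nat.shiftLeft 1 0) 0)) = true := by decide +kernel

theorem T1_idx : Idx.{u} iv (T1_R ++ []) ([1,2,3].map fun x => [x]) [1,2,3,4] 5 :=
  Reach.idx T1_n_ok (reach_runH T1_n_ok (fun x p _ => ptInv_gp T1_n_ok x p) T1_n_rel (reach_defsH T1_n_ok _ _ _ _ _ _) _ _) T1_fin (by norm_num)

end Cfsg.Lib.Comp.Sy6
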