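import Cfsg.Agent.Lib.Comp.Sy6.Base

set_option maxRecDepth 100000
set_option Elab.async false

namespace Cfsg.Lib.Comp.Sy6

universe u

noncomputable def T2_R : List (List ℕ × ℕ) := [([1],1),
 ([2],1),
 ([1,2],2),
 ([3],1),
 ([1,3],1),
 ([2,3],2)]

noncomputable def T2_n_1 : Net :=
 (Net.cons 1 (nat_lit 0x4)
 Net.nil)

noncomputable def T2_n_2 : Net :=
 (Net.cons 2 (nat_lit 0x2)
 (Net.cons 1 (nat_lit 0x4)
 (Net.cons 2 (nat_lit 0x2)
 Net.nil)))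

noncomputable def T2_n_3 : Net :=
 (Net.cons 1 (nat_lit 0x1)
 Net.nil)

noncomputable def T2_n : List Net := [Net.nil,
 T2_n_1,
 T2_n_2,
 T2_n_3]

theorem T2_n_ok : NetsOK 4 T2_n := netsOK_of (by decide +kernel)

theorem T2_n_rel : Rels (gp T2_n) T2_R := rels_of_relsB (k := 2) T2_n_ok (by norm_num) (by decide +kernel)

theorem T2_fin : finB 4 T2_n [1,2,3] 4 (runH 4 T2_n (fun x p => ptInv (nth Net.nil T2_n x) p) iv T2_R [] ([1,2].map fun x => [x]) 0 []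
  [1,5,0,4,12,16,20,8,16]
  (defsH 4 T2_n (ones 24) [3,2,1] (Nat.shiftLeft 1 0) 0)) = true := by decide +kernel

theorem T2_idx : Idx.{u} iv (T2_R ++ []) ([1,2].map fun x => [x]) [1,2,3] 4 :=
  Reach.idx T2_n_ok (reach_runH T2_n_ok (fun x p _ => ptInv_gp T2_n_ok x p) T2_n_rel (reach_defsH T2_n_ok _ _ _ _ _ _) _ _) T2_fin (by norm_num)

end Cfsg.Lib.Comp.Sy6
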