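import Cfsg.Agent.Lib.Comp.Sy6.Perm
import Cfsg.Agent.Lib.Comp.PermGrp
import Cfsg.Agent.Lib.Comp.Bridge2
import Cfsg.Agent.Lib.Comp.Sy6.T0
import Cfsg.Agent.Lib.Comp.Sy6.T1
import Cfsg.Agent.Lib.Comp.Sy6.T2
import Cfsg.Agent.Lib.Comp.Sy6.T3
import Cfsg.Agent.Lib.Comp.Sy6.T4
import Cfsg.Agent.Lib.Comp.Simple
import Cfsg.Agent.Lib.Fi.Lab

set_option maxRecDepth 100000
set_option Elab.async false

namespace Cfsg.Lib.Comp.Sy6

universe u

theorem T4_ord : Ord.{u} iv T4_R [1] 2 :=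
  (T4_idx.ord_base).of_cons (cons_of_subset (by decide +kernel))

theorem T3_ord : Ord.{u} iv T3_R [1,2] 6 :=
  (T3_idx.ord_step T4_ord).of_cons (cons_of_subset (by decide +kernel))

theorem T2_ord : Ord.{u} iv T2_R [1,2,3] 24 :=
  (T2_idx.ord_step T3_ord).of_cons (cons_of_subset (by decide +kernel))

theorem T1_ord : Ord.{u} iv T1_R [1,2,3,4] 120 :=
  (T1_idx.ord_step T2_ord).of_cons (cons_of_subset (by decide +kernel))

theorem T0_ord : Ord.{u} iv T0_R [1,2,3,4,5] 720 :=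
  (T0_idx.ord_step T1_ord).of_cons (cons_of_subset (by decide +kernel))

theorem ord : Ord.{u} iv R L 720 := T0_ord.of_cons (cons_of_subset (by decide +kernel))

theorem card : Nat.card (cl (gp nets) L) = 720 := card_of_ord ord nets_iv nets_rel lb

noncomputable def Rz : List (List ℕ × ℕ) := apd R (L.map fun x => ([x, iv x], 0))

theorem pk : Fi.Pk (gp nets) iv R Rz L 720 :=
  ⟨nets_iv, nets_rel, card, by norm_num, by decide +kernel, by decide⟩

theorem fx : 6 ≤ 2 ^ 3 ∧ 6 ≤ 6 ∧ fxB 6 3 6 nets L = true := by decide +kernel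

end Cfsg.Lib.Comp.Sy6
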