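import Cfsg.Agent.Lib.Comp.Sy6.Base

set_option maxRecDepth 100000
set_option Elab.async false

namespace Cfsg.Lib.Comp.Sy6

universe u

noncomputable def nets_1 : Net :=
 (Net.cons 1 (nat_lit 0x10)
 Net.nil)

noncomputable def nets_2 : Net :=
 (Net.cons 1 (nat_lit 0x8)
 (Net.cons 1 (nat_lit 0x10)
 (Net.cons 1 (nat_lit 0x8)
 Net.nil)))

noncomputable def nets_3 : Net :=
 (Net.cons 3 (nat_lit 0x4)
 (Net.cons 1 (nat_lit 0x8)
 (Net.cons 1 (nat_lit 0x10)
 (Net.cons 1 (nat_lit 0x8)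
 (Net.cons 3 (nat_lit 0x4)
 Net.nil)))))

noncomputable def nets_4 : Net :=
 (Net.cons 1 (nat_lit 0x2)
 Net.nil)

noncomputable def nets_5 : Net :=
 (Net.cons 1 (nat_lit 0x1)
 Net.nil)

noncomputable def nets : List Net := [Net.nil,
 nets_1,
 nets_2,
 nets_3,
 nets_4,
 nets_5]

theorem nets_ok : NetsOK 6 nets := netsOK_of (by decide +kernel)

theorem nets_rel : Rels (gp nets) R := rels_of_relsB (k := 3) nets_ok (by norm_num) (by decide +kernel)

theorem nets_iv : IvOK (gp nets) iv := ivOK_of_ivB (k := 3) nets_ok (by norm_num) (by decide +kernel)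

noncomputable def slp : List (ℕ × List ℕ) := []

theorem slp_ok : slpB 6 3 nets slp L = true := by decide +kernel

theorem mem_all {x : ℕ} (h : x ∈ L ++ slp.map (·.1)) : gp nets x ∈ cl (gp nets) L :=
  cl_eq_of_slpB nets_ok (by norm_num) slp_ok ▸ mem_cl h

theorem lb : 720 ≤ Nat.card (cl (gp nets) L) := by
  rw [← cl_eq_of_slpB nets_ok (by norm_num) slp_ok]
  exact lb_of_chainB nets_ok (C := [([1,2,3,4],[5,4,3,2,1],0,0,6),
 ([1,2,3],[4,3,2,1],1,1,5),
 ([1,2],[3,2,1],2,2,4),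
 ([1],[2,1],3,3,3),
 ([],[1],4,4,2)]) (by decide +kernel)

end Cfsg.Lib.Comp.Sy6
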